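import Cfsg.Agent.H364.OutLie
import Cfsg.Agent.S2074
import Cfsg.Agent.S2079

/-!
# Orders of some automorphism groups (helper14, for S5934, box F)
-/

set_option autoImplicit false

namespace Cfsg.Agent.R2.H14.Fr

open Cfsg Cfsg.Agent.OrdDiv Cfsg.Agent.H364.OutLie

/-- orders of outer automorphism groups -/
def autTab : List (Grp × ℕ) :=
  [(.psl 6 2, 2), (.psl 8 2, 2), (.psl 5 4, 4), (.psl 2 128, 7), (.psp 4 2, 1), (.psp 5 2, 1), (.psu 6 2, 6),
    (.psu 7 2, 2), (.psu 8 2, 2), (.oplus 4 2, 6), (.oplus 5 2, 2), (.oplus 6 2, 2), (.ominus 5 2, 2), (.f4 2, 2),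
    (.e6 2, 2), (.te6 2, 6), (.td4 2, 3), (.suz, 2), (.fi22, 2)]

section rows

set_option linter.unusedSectionVars false

variable {S : Type} [Group S] [Finite S] [IsSimpleGroup S]

theorem row_psl {n f q : ℕ} (hf : 1 ≤ f) (hq : q = 2 ^ f) (hn : 3 ≤ n) (h : Real (.psl n q) S) :
    Nat.card (MulAut S) = 2 * f * Nat.gcd n (q - 1) * Nat.card S := by
  obtain ⟨F, _, _, hF, ⟨e⟩⟩ := h
  have : Fact (Nat.Prime 2) := ⟨Nat.prime_two⟩
  have h1 := Cfsg.Agent.S0813.result 2 f hf (hF.trans hq) n (by omega) (by omega)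
  rw [mulaut_congr e, h1, card_pgl (by omega), hF, if_neg (by omega), Nat.card_congr e.toEquiv]
  ring

theorem row_psl2 {f q : ℕ} (hf : 2 ≤ f) (hq : q = 2 ^ f) (h : Real (.psl 2 q) S) :
    Nat.card (MulAut S) = f * Nat.gcd 2 (q - 1) * Nat.card S := by
  obtain ⟨F, _, _, hF, ⟨e⟩⟩ := h
  have : Fact (Nat.Prime 2) := ⟨Nat.prime_two⟩
  have h4 : 4 ≤ 2 ^ f := by
    calc 4 = 2 ^ 2 := by norm_num
      _ ≤ _ := Nat.pow_le_pow_right (by norm_num) hf
  have h1 := Cfsg.Agent.S0813.result 2 f (by omega) (hF.trans hq) 2 le_rfl (fun _ => h4)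
  rw [mulaut_congr e, h1, card_pgl le_rfl, hF, if_pos rfl, Nat.card_congr e.toEquiv]
  ring

theorem row_psp {n f q : ℕ} (hf : 1 ≤ f) (hq : q = 2 ^ f) (hn : 3 ≤ n) (h : Real (.psp n q) S) :
    Nat.card (MulAut S) = Nat.gcd 2 (q - 1) * f * Nat.card S := by
  obtain ⟨F, _, _, hF, ⟨e⟩⟩ := h
  have : Fact (Nat.Prime 2) := ⟨Nat.prime_two⟩
  have h1 := Cfsg.Agent.S0814.result 2 f hf (hF.trans hq) n (by omega) (by omega)
  rw [mulaut_congr e, h1, ← hq, if_neg (by omega), Nat.card_congr e.toEquiv]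
  ring

theorem row_psu {n f q : ℕ} (hf : 1 ≤ f) (hq : q = 2 ^ f) (hn : 4 ≤ n) (h : Real (.psu n q) S) :
    Nat.card (MulAut S) = Nat.gcd n (q + 1) * (2 * f) * Nat.card S := by
  obtain ⟨F, _, _, hF, ⟨e⟩⟩ := h
  have : Fact (Nat.Prime 2) := ⟨Nat.prime_two⟩
  have h1 := Cfsg.Agent.S0815.result 2 f hf hq hF n (by omega) (by omega)
  rw [mulaut_congr e, h1, Nat.card_congr e.toEquiv]

theorem row_oplus {n f q : ℕ} (hf : 1 ≤ f) (hq : q = 2 ^ f) (hn : 4 ≤ n) (h : Real (.oplus n q) S) :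
    Nat.card (MulAut S) = (if n = 4 then 3 else 1) * 2 * f * Nat.card S := by
  obtain ⟨F, _, _, hF, ⟨e⟩⟩ := h
  have : Fact (Nat.Prime 2) := ⟨Nat.prime_two⟩
  have h1 := Cfsg.Agent.S0817.result 2 f hf (hF.trans hq) n hn
  rw [mulaut_congr e, h1, if_pos rfl, Nat.card_congr e.toEquiv]

theorem row_ominus {n f q : ℕ} (hf : 1 ≤ f) (hq : q = 2 ^ f) (hn : 4 ≤ n) (h : Real (.ominus n q) S) :
    Nat.card (MulAut S) = 2 * f * Nat.card S := by
  obtain ⟨F, _, _, a, b, hF, hab, ⟨e⟩⟩ := h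
  have : Fact (Nat.Prime 2) := ⟨Nat.prime_two⟩
  have h1 := Cfsg.Agent.S0818.result 2 f hf (hF.trans hq) n hn a b hab
  rw [mulaut_congr e, h1, if_pos rfl, Nat.card_congr e.toEquiv]

theorem aut_of_out (hna : ¬ IsMulCommutative S) {c : ℕ} (h : Nat.card (Out S) = c) :
    Nat.card (MulAut S) = c * Nat.card S := by
  rw [← H934.OutB.card_out_mul S hna, h]

theorem aut_row (hna : ¬ IsMulCommutative S) {x : Grp × ℕ} (hx : x ∈ autTab) (h : Real x.1 S) :
    Nat.card (MulAut S) = x.2 * Nat.card S := by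
  have h2 : Fact (Nat.Prime 2) := ⟨Nat.prime_two⟩
  simp only [autTab, List.mem_cons, List.not_mem_nil, or_false] at hx
  rcases hx with rfl | rfl | rfl | rfl | rfl | rfl | rfl | rfl | rfl | rfl | rfl | rfl | rfl | rfl | rfl | rfl | rfl |
    rfl | rfl
  · exact row_psl (f := 1) le_rfl (by norm_num) (by norm_num) h
  · exact row_psl (f := 1) le_rfl (by norm_num) (by norm_num) h
  · exact row_psl (f := 2) (by norm_num) (by norm_num) (by norm_num) h
  · exact row_psl2 (f := 7) (by norm_num) (by norm_num) h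
  · exact row_psp (f := 1) le_rfl (by norm_num) (by norm_num) h
  · exact row_psp (f := 1) le_rfl (by norm_num) (by norm_num) h
  · exact row_psu (f := 1) le_rfl (by norm_num) (by norm_num) h
  · exact row_psu (f := 1) le_rfl (by norm_num) (by norm_num) h
  · exact row_psu (f := 1) le_rfl (by norm_num) (by norm_num) h
  · exact row_oplus (f := 1) le_rfl (by norm_num) (by norm_num) h
  · exact row_oplus (f := 1) le_rfl (by norm_num) (by norm_num) h
  · exact row_oplus (f := 1) le_rfl (by norm_num) (by norm_num) h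
  · exact row_ominus (f := 1) le_rfl (by norm_num) (by norm_num) h
  · obtain ⟨F, _, _, hF, ⟨e⟩⟩ := h
    have hF' : Fintype.card F = 2 ^ 1 := hF
    have := charP_of_card Nat.prime_two le_rfl hF'
    refine aut_of_out hna ?_
    rw [H934.OutB.card_out_congr e, Cfsg.Agent.S2122.result 2 1 hF']
    rfl
  · obtain ⟨F, _, _, hF, ⟨e⟩⟩ := h
    have hF' : Fintype.card F = 2 ^ 1 := hF
    have := charP_of_card Nat.prime_two le_rfl hF'
    refine aut_of_out hna ?_
    rw [H934.OutB.card_out_congr e, Cfsg.Agent.S2123.result 2 1 hF']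
    rfl
  · obtain ⟨F, _, _, hF, ⟨e⟩⟩ := h
    have hF' : Fintype.card F = 2 ^ (2 * 1) := hF
    have := charP_of_card Nat.prime_two (by norm_num) hF'
    refine aut_of_out hna ?_
    have h1 := Cfsg.Agent.S2130.result 2 1 hF' le_rfl
    rw [H934.OutB.card_out_congr e]
    exact h1
  · obtain ⟨F, _, _, hF, ⟨e⟩⟩ := h
    have hF' : Fintype.card F = 2 ^ (3 * 1) := hF
    have := charP_of_card Nat.prime_two (by norm_num) hF'
    refine aut_of_out hna ?_
    have h1 := Cfsg.Agent.S2129.result 2 1 hF' le_rfl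
    rw [H934.OutB.card_out_congr e]
    exact h1
  · obtain ⟨e⟩ := h
    refine aut_of_out hna ?_
    rw [H934.OutB.card_out_congr e, Cfsg.Agent.S2074.result]
  · obtain ⟨e⟩ := h
    refine aut_of_out hna ?_
    rw [H934.OutB.card_out_congr e, Cfsg.Agent.S2079.result]

end rows

end Cfsg.Agent.R2.H14.Fr
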