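import Cfsg.Agent.OrdDiv.Table
import Cfsg.Agent.R2.H27.Box
import Cfsg.Agent.S0000

/-!
# The simple groups whose order divides `|E₇(2)|` (helper14, for S5934, box F)
-/

set_option autoImplicit false

namespace Cfsg.Agent.R2.H14.Fr

open Cfsg Cfsg.Agent.OrdDiv Cfsg.Agent.R2.H27

def l7 : List (ℕ × ℕ) :=
  [(2, 63), (3, 11), (5, 2), (7, 3), (11, 1), (13, 1), (17, 1), (19, 1), (31, 1), (43, 1), (73, 1), (127, 1)]

theorem valid7 : valid l7 N7 = true := by decide +kernel

/-- names and orders of the simple groups whose order divides `N7` -/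
def tab7 : List (Grp × ℕ) := (cands l7 N7).map fun g => (g, ordN g)

theorem exists_tab {S : Type} [Group S] [Finite S] [IsSimpleGroup S] (hna : ¬ IsMulCommutative S)
    (hd : Nat.card S ∣ N7) : ∃ x ∈ tab7, Real x.1 S ∧ Nat.card S = x.2 := by
  have h : IsKnownSimple' S := Cfsg.Agent.S0000.result
  obtain ⟨g, h1, h2, h3⟩ := exists_good table h (fun h => hna ⟨⟨h⟩⟩) valid7 hd
  exact ⟨(g, ordN g), List.mem_map.2 ⟨g, h1, rfl⟩, h2, h3⟩

/-- the explicit list -/
def lst7 : List (Grp × ℕ) := [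
  (.alt 5, 60),
  (.alt 6, 360),
  (.alt 7, 2520),
  (.alt 8, 20160),
  (.alt 9, 181440),
  (.alt 10, 1814400),
  (.alt 11, 19958400),
  (.alt 12, 239500800),
  (.alt 13, 3113510400),
  (.alt 14, 43589145600),
  (.psl 3 2, 168),
  (.psl 4 2, 20160),
  (.psl 5 2, 9999360),
  (.psl 6 2, 20158709760),
  (.psl 7 2, 163849992929280),
  (.psl 8 2, 5348063769211699200),
  (.psl 9 2, 699612310033197642547200),
  (.psl 2 4, 60),
  (.psl 3 4, 20160),
  (.psl 4 4, 987033600),
  (.psl 5 4, 258492255436800),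
  (.psl 2 8, 504),
  (.psl 3 8, 16482816),
  (.psl 4 8, 34558531338240),
  (.psl 2 16, 4080),
  (.psl 3 16, 1425715200),
  (.psl 2 32, 32736),
  (.psl 2 64, 262080),
  (.psl 3 64, 93801727918080),
  (.psl 2 128, 2097024),
  (.psl 2 512, 134217216),
  (.psl 3 3, 5616),
  (.psl 4 3, 6065280),
  (.psl 2 9, 360),
  (.psl 3 9, 42456960),
  (.psl 2 27, 9828),
  (.psl 2 729, 193709880),
  (.psl 2 5, 60),
  (.psl 2 25, 7800),
  (.psl 2 7, 168),
  (.psl 3 7, 1876896),
  (.psl 2 49, 58800),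
  (.psl 2 343, 20176632),
  (.psl 2 11, 660),
  (.psl 2 13, 1092),
  (.psl 2 17, 2448),
  (.psl 2 19, 3420),
  (.psl 2 31, 14880),
  (.psl 2 43, 39732),
  (.psl 2 127, 1024128),
  (.psp 3 2, 1451520),
  (.psp 4 2, 47377612800),
  (.psp 5 2, 24815256521932800),
  (.psp 2 4, 979200),
  (.psp 2 8, 1056706560),
  (.psp 3 8, 9077005607176765440),
  (.psp 2 3, 25920),
  (.psp 3 3, 4585351680),
  (.psu 4 2, 25920),
  (.psu 5 2, 13685760),
  (.psu 6 2, 9196830720),
  (.psu 7 2, 227787103272960),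
  (.psu 8 2, 7434971050829414400),
  (.psu 9 2, 325473292721108444774400),
  (.psu 3 4, 62400),
  (.psu 3 8, 5515776),
  (.psu 4 8, 34693789777920),
  (.psu 3 3, 6048),
  (.psu 4 3, 3265920),
  (.psu 3 9, 42573600),
  (.psu 3 7, 5663616),
  (.oodd 3 3, 4585351680),
  (.oplus 4 2, 174182400),
  (.oplus 5 2, 23499295948800),
  (.oplus 6 2, 50027557148216524800),
  (.ominus 4 2, 197406720),
  (.ominus 5 2, 25015379558400),
  (.g2 4, 251596800),
  (.g2 8, 4329310519296),
  (.g2 3, 4245696),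
  (.f4 2, 3311126603366400),
  (.e6 2, 214841575522005575270400),
  (.e7 2, 7997476042075799759100487262680802918400),
  (.te6 2, 76532479683774853939200),
  (.td4 2, 211341312),
  (.sz 8, 29120),
  (.tits, 17971200),
  (.m11, 7920),
  (.m12, 95040),
  (.m22, 443520),
  (.j1, 175560),
  (.j2, 604800),
  (.j3, 50232960),
  (.suz, 448345497600),
  (.he, 4030387200),
  (.on, 460815505920),
  (.fi22, 64561751654400)]

theorem tab7_eq : tab7 = lst7 := by decide +kernel

theorem tab_all {P : Grp × ℕ → Bool} (h : lst7.all P = true) {x : Grp × ℕ} (hx : x ∈ tab7) : P x = true :=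
  List.all_eq_true.1 h x (tab7_eq ▸ hx)

end Cfsg.Agent.R2.H14.Fr
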